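import Mathlib
import Cfsg.Prelude.Def_Characters
import Cfsg.Prelude.Def_Blocks

set_option autoImplicit false

/-!
# S4705 (faithful irreducible character of degree `p - 2`, `|P| = p`): vocabulary (helper17)

* `powFun k χ = fun g => χ (g ^ k)`, `altSq χ = (χ(g)² - χ(g²))/2`, `symSq χ = (χ(g)² + χ(g²))/2`;
* `Setting G p`: the *perfect setting* of the proof: a perfect finite group `G`, a Sylow `p`-subgroup
  `P` of order `p > 5`, a faithful irreducible character `ζ` of degree `p - 2`, with the complete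
  local/block data: `C_G(P) = P Z(G)`, `|N_G(P) : C_G(P)| = 2`, the `(p-1)/2` exceptional characters
  `Y ∋ ζ` (all equal on `p`-regular elements, `η(y) = -(ψ_η(y) + ψ_η(y)⁻¹)` on `P∖1`), the two
  non-exceptional characters `χ₁, χ₂` of the block (`χ₁ = 1` on `P∖1`, `χ₂ = χ₁ + ζ` on
  `p`-regular elements), and an exponent `k` prime to `|G|` with `g^k = g²` on odd-order
  elements and `g^k = g` on `2`-elements.
See `SPINE4705.md` (same folder) for the proof sheet.
-/

namespace Cfsg.Agent.Lib.Helper17.PM2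

open Cfsg
open scoped ComplexConjugate

universe u

/-- `g ↦ χ (g ^ k)`. -/
def powFun {G : Type u} [Group G] (k : ℕ) (χ : G → ℂ) : G → ℂ := fun g => χ (g ^ k)

/-- The character of the exterior square: `g ↦ (χ(g)² - χ(g²)) / 2`. -/
noncomputable def altSq {G : Type u} [Group G] (χ : G → ℂ) : G → ℂ :=
  fun g => (χ g ^ 2 - χ (g ^ 2)) / 2

/-- The character of the symmetric square: `g ↦ (χ(g)² + χ(g²)) / 2`. -/
noncomputable def symSq {G : Type u} [Group G] (χ : G → ℂ) : G → ℂ :=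
  fun g => (χ g ^ 2 + χ (g ^ 2)) / 2

/-- The local and block data attached to a faithful irreducible character `ζ` of degree `p - 2`
of a finite group with a non-normal Sylow `p`-subgroup `P` of order `p > 5` (output of module
`[P-DATA]`; no perfectness here). -/
structure BlockData {G : Type u} [Group G] (p : ℕ) (P : Sylow p G) (ζ : G → ℂ) where
  /-- the exceptional characters of the block of `ζ` -/
  Y : Finset (G → ℂ)
  /-- the character of `P` attached to an exceptional character (junk off `Y`) -/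
  ψ : (G → ℂ) → (↥(P : Subgroup G) →* ℂˣ)
  /-- the two non-exceptional characters of the block of `ζ` -/
  χ₁ : G → ℂ
  χ₂ : G → ℂ
  hcent : ∀ c ∈ Subgroup.centralizer ((P : Subgroup G) : Set G),
    ∃ y ∈ (P : Subgroup G), ∃ z ∈ Subgroup.center G, c = y * z
  hidx : (Subgroup.centralizer ((P : Subgroup G) : Set G)).relIndex
    (Subgroup.normalizer ((P : Subgroup G) : Set G)) = 2
  hYirr : ∀ η ∈ Y, IsIrrCharacter G η
  hζY : ζ ∈ Y
  hYcard : 2 * Y.card + 1 = p
  hYreg : ∀ η ∈ Y, ∀ g : G, ¬ p ∣ orderOf g → η g = ζ g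
  hψ1 : ∀ η ∈ Y, ψ η ≠ 1
  hψinj : ∀ η ∈ Y, ∀ η' ∈ Y, (ψ η = ψ η' ∨ ψ η = (ψ η')⁻¹) → η = η'
  hYval : ∀ η ∈ Y, ∀ y : ↥(P : Subgroup G), y ≠ 1 →
    η (y : G) = -(((ψ η y : ℂˣ) : ℂ) + (((ψ η y)⁻¹ : ℂˣ) : ℂ))
  hχ₁ : IsIrrCharacter G χ₁
  hχ₂ : IsIrrCharacter G χ₂
  hχ₁P : ∀ y ∈ (P : Subgroup G), y ≠ 1 → χ₁ y = 1
  hrel : ∀ g : G, ¬ p ∣ orderOf g → χ₂ g = χ₁ g + ζ g

/-- The perfect setting of the proof of S4705. -/
structure Setting (G : Type u) [Group G] [Fintype G] (p : ℕ) where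
  hp : p.Prime
  h5 : 5 < p
  P : Sylow p G
  hP : Nat.card P = p
  hnn : ¬ (P : Subgroup G).Normal
  hperf : commutator G = ⊤
  ζ : G → ℂ
  hζ : IsIrrCharacter G ζ
  hfaith : ∀ g : G, ζ g = ζ 1 → g = 1
  hdeg : ζ 1 = (p : ℂ) - 2
  D : BlockData p P ζ
  /-- the exponent `k` -/
  k : ℕ
  hk : k.Coprime (Nat.card G)
  hkodd : ∀ g : G, Odd (orderOf g) → g ^ k = g ^ 2
  hk2 : ∀ u x : G, Commute u x → (∃ j : ℕ, orderOf u = 2 ^ j) → Odd (orderOf x) →
    (u * x) ^ k = u * x ^ 2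

/-- The class function `F(g) = |ζ(g)|² + ζ(g)² conj(ζ(g^k))` of the counting argument. -/
noncomputable def Setting.F {G : Type u} [Group G] [Fintype G] {p : ℕ} (S : Setting G p) : G → ℂ :=
  fun g => S.ζ g * conj (S.ζ g) + S.ζ g ^ 2 * conj (S.ζ (g ^ S.k))

end Cfsg.Agent.Lib.Helper17.PM2
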